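import Groth.Prelude.Def_Found
import Groth.Prelude.Def_Cyc
import Mathlib

/-!
# The coheight is a dimension function on a catenary local scheme
-/

set_option autoImplicit false
universe u

open AlgebraicGeometry Order

namespace CatDimFunLib

variable {A : Type u} [CommRing A] [IsLocalRing A]

local notation "P" => PrimeSpectrum A

theorem le_closedPoint (p : P) : p ≤ IsLocalRing.closedPoint A := IsLocalRing.le_maximalIdeal p.2.ne_top

theorem coheight_closedPoint : Order.coheight (IsLocalRing.closedPoint A) = 0 :=
  Order.coheight_eq_zero.mpr fun q _ => le_closedPoint q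

variable (hA : CAlg.IsCatenary A)
include hA

theorem exists_coheight_eq (p : P) : ∃ n : ℕ, Order.coheight p = n := by
  obtain ⟨n, hn⟩ := hA.1 p _ (le_closedPoint p)
  have : Order.coheight p ≤ n := Order.coheight_le fun s hs => by
    rcases (le_closedPoint s.last).eq_or_lt with h | h
    · exact_mod_cast hn s hs h
    · have := hn (s.snoc (IsLocalRing.closedPoint A) h) (by simpa using hs) (by simp)
      simp only [RelSeries.snoc_length] at this
      exact_mod_cast (show s.length ≤ n by omega)
  obtain ⟨m, hm⟩ := ENat.ne_top_iff_exists.mp (ne_top_of_le_ne_top (ENat.natCast_ne_top n) this)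
  exact ⟨m, hm.symm⟩

theorem exists_saturated (p : P) : ∃ s : LTSeries P, s.head = p ∧ s.last = IsLocalRing.closedPoint A ∧
    (∀ i : Fin s.length, s (Fin.castSucc i) ⋖ s (Fin.succ i)) ∧ Order.coheight p = s.length := by
  obtain ⟨n, hn⟩ := exists_coheight_eq hA p
  obtain ⟨s, hs, hl⟩ := Order.exists_series_of_le_coheight p (n := n) hn.ge
  refine ⟨s, hs, ?_, fun i => ⟨s.step i, fun c h1 h2 => ?_⟩, by rw [hn, hl]⟩
  · by_contra h
    have hlt := (le_closedPoint s.last).lt_of_ne h
    have h' := Order.length_le_coheight_head (p := s.snoc (IsLocalRing.closedPoint A) hlt)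
    rw [RelSeries.head_snoc, hs, hn, RelSeries.snoc_length, hl] at h'
    have : n + 1 ≤ n := by exact_mod_cast h'
    omega
  · have h' := Order.length_le_coheight (x := p) (p := s.insertNth i c h1 h2) (by
      refine le_of_eq (hs.symm.trans ?_)
      have e : (Fin.castSucc i.succ).succAbove (0 : Fin (s.length + 1)) = 0 :=
        Fin.succAbove_ne_zero_zero (fun h0 => absurd (congrArg Fin.val h0) (by simp))
      show s.toFun 0 = Fin.insertNth (α := fun _ => P) (Fin.castSucc i.succ) c s.toFun 0
      conv_rhs => arg 4; rw [← e]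
      rw [Fin.insertNth_apply_succAbove])
    rw [hn, show (s.insertNth i c h1 h2).length = n + 1 from congrArg (· + 1) hl] at h'
    have : n + 1 ≤ n := by exact_mod_cast h'
    omega

theorem coheight_eq_succ {p q : P} (h : p ⋖ q) : Order.coheight p = Order.coheight q + 1 := by
  obtain ⟨s, hs, hs', hsat, hl⟩ := exists_saturated hA p
  obtain ⟨t, ht, ht', htat, hlt⟩ := exists_saturated hA q
  have hpq : p < t.head := ht ▸ h.lt
  let t' : LTSeries P := ⟨t.length + 1, Fin.cons p t.toFun, fun i => by
    refine Fin.cases ?_ (fun j => ?_) i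
    · exact hpq
    · exact t.step j⟩
  have := hA.2 s t' (hs.trans rfl) (by
      rw [hs']
      show _ = Fin.cons (α := fun _ => P) p t.toFun (Fin.last (t.length + 1))
      rw [← Fin.succ_last, Fin.cons_succ]
      exact ht'.symm) hsat (fun i => by
    refine Fin.cases ?_ (fun j => ?_) i
    · show p ⋖ t.head
      rw [ht]; exact h
    · exact htat j)
  rw [hl, hlt, this]
  rfl

/-- A point of `Spec A` as a prime. -/
abbrev pr (x : Spec (CommRingCat.of A)) : P := x

omit hA in
theorem specializes_iff (x y : Spec (CommRingCat.of A)) : x ⤳ y ↔ pr x ≤ pr y :=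
  (PrimeSpectrum.le_iff_specializes (pr x) (pr y)).symm

theorem isDimFun : Cyc.IsDimFun (Spec (CommRingCat.of A)) (fun x => ((Order.coheight (pr x)).toNat : ℤ)) := by
  intro x y hxy hne
  obtain ⟨n, hn⟩ := exists_coheight_eq hA (pr x)
  obtain ⟨m, hm⟩ := exists_coheight_eq hA (pr y)
  have hlt : pr x < pr y := ((specializes_iff x y).mp hxy).lt_of_ne hne
  have h1 : Order.coheight (pr y) < Order.coheight (pr x) :=
    Order.coheight_strictAnti hlt (by rw [hm]; exact ENat.natCast_lt_top m)
  rw [hn, hm] at h1
  refine ⟨by simpa [hn, hm] using h1, fun himm => ?_⟩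
  have hcov : pr x ⋖ pr y := ⟨hlt, fun c h1 h2 => by
    rcases himm c ((specializes_iff x c).mpr h1.le) ((specializes_iff c y).mpr h2.le) with e | e
    · exact h1.ne e.symm
    · exact h2.ne e⟩
  have := coheight_eq_succ hA hcov
  rw [hn, hm] at this
  have e : n = m + 1 := by exact_mod_cast this
  show ((Order.coheight (pr x)).toNat : ℤ) = ((Order.coheight (pr y)).toNat : ℤ) + 1
  rw [hn, hm, ENat.toNat_natCast, ENat.toNat_natCast, e]
  push_cast
  rfl

end CatDimFunLib
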